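/-
Three-point lines: an isomorphism with the symplectic group over the field with two elements
taking the class onto the transvections.
-/
import Cfsg.Agent.H7.TT.Symp

set_option autoImplicit false
set_option linter.unusedSectionVars false

namespace H84.CoreCase

open Cfsg H99 H7.TT
open scoped Matrix

variable {G : Type*} [Group G] [Finite G] {D : Set G}

theorem two_le_of_orth (u v : Fin 1 ⊕ Fin 1 → ZMod 2) (hu : u ≠ 0) (hv : v ≠ 0)
    (h : u ⬝ᵥ (Matrix.J (Fin 1) (ZMod 2) *ᵥ v) = 0) : u = v := by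
  have key : ∀ a b c d : ZMod 2, (a ≠ 0 ∨ b ≠ 0) → (c ≠ 0 ∨ d ≠ 0) → a * d + b * c = 0 →
      a = c ∧ b = d := by decide
  have hne : ∀ w : Fin 1 ⊕ Fin 1 → ZMod 2, w ≠ 0 → w (Sum.inl 0) ≠ 0 ∨ w (Sum.inr 0) ≠ 0 := by
    intro w hw
    by_contra! hh
    apply hw
    funext i
    rcases i with i | i <;> fin_cases i <;> simp [hh.1, hh.2]
  have hf : u (Sum.inl 0) * v (Sum.inr 0) + u (Sum.inr 0) * v (Sum.inl 0) = 0 := by
    rw [← h]
    simp [dotProduct, Matrix.mulVec, Matrix.J, Fintype.sum_sum_type, CharTwo.neg_eq]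
  obtain ⟨h1, h2⟩ := key _ _ _ _ (hne u hu) (hne v hv) hf
  funext i
  rcases i with i | i <;> fin_cases i <;> assumption

/-- Three-point lines: the class goes to the transvections. -/
theorem sp_case (H : Geo D) (h3 : Three D) :
    ∃ n : ℕ, 2 ≤ n ∧ ∃ e : G ≃* Matrix.symplecticGroup (Fin n) (ZMod 2),
      e '' D = {g : Matrix.symplecticGroup (Fin n) (ZMod 2) |
        ((g : Matrix (Fin n ⊕ Fin n) (Fin n ⊕ Fin n) (ZMod 2)) - 1).rank = 1} := by
  classical
  have C := H.closed
  letI : Fintype D := Fintype.ofFinite _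
  set W := H.space h3 with hW
  have hrow : ∀ {x : G}, x ∈ D → row D x ∈ W := fun {x} hx => Or.inr ⟨x, hx, rfl⟩
  have hcases : ∀ u : W, u = 0 ∨ ∃ x, ∃ hx : x ∈ D, u = ⟨row D x, hrow hx⟩ := fun u => by
    rcases u.2 with h | ⟨x, hx, h⟩
    · exact Or.inl (Subtype.ext h)
    · exact Or.inr ⟨x, hx, Subtype.ext h⟩
  -- the form
  let F : W → W → ZMod 2 := fun u v =>
    if h : ∃ x : D, (u : D → ZMod 2) = row D (x : G) then (v : D → ZMod 2) h.choose else 0
  have hF0 : ∀ v, F 0 v = 0 := fun v => by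
    simp only [F]
    rw [dif_neg]
    rintro ⟨x, hx⟩
    exact H.row_ne_zero x.2 hx.symm
  have hFrow : ∀ (x : G) (hx : x ∈ D) (v : W), F ⟨row D x, hrow hx⟩ v = (v : D → ZMod 2) ⟨x, hx⟩ := by
    intro x hx v
    simp only [F]
    have h : ∃ y : D, row D x = row D (y : G) := ⟨⟨x, hx⟩, rfl⟩
    rw [dif_pos h]
    exact congrArg _ (Subtype.ext (H.row_inj h.choose.2 hx h.choose_spec.symm))
  have hFadd : ∀ u v v', F u (v + v') = F u v + F u v' := fun u v v' => by
    simp only [F]; split_ifs <;> simp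
  have hFsymm : ∀ u v, F u v = F v u := by
    intro u v
    rcases hcases u with rfl | ⟨x, hx, rfl⟩ <;> rcases hcases v with rfl | ⟨y, hy, rfl⟩
    · rfl
    · rw [hF0, hFrow _ hy]; rfl
    · rw [hF0, hFrow _ hx]; rfl
    · rw [hFrow _ hx, hFrow _ hy]
      exact zmod_two_ext _ _ (by rw [row_eq_zero, row_eq_zero]; exact ⟨Commute.symm, Commute.symm⟩)
  have hFadd' : ∀ u u' v, F (u + u') v = F u v + F u' v := fun u u' v => by
    rw [hFsymm, hFadd, hFsymm v u, hFsymm v u']
  let B : LinearMap.BilinForm (ZMod 2) W :=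
    LinearMap.mk₂ (ZMod 2) F hFadd'
      (fun c u v => by
        rcases (by decide : ∀ c : ZMod 2, c = 0 ∨ c = 1) c with rfl | rfl
        · simp [hF0]
        · simp)
      hFadd
      (fun c u v => by simp only [F]; split_ifs <;> simp)
  have hBF : ∀ u v, B u v = F u v := fun u v => rfl
  have halt : B.IsAlt := by
    intro u
    rcases hcases u with rfl | ⟨x, hx, rfl⟩
    · simp
    · rw [hBF, hFrow _ hx]; exact row_eq_zero.2 (Commute.refl x)
  have hn1 : ∀ u : W, (∀ v, B u v = 0) → u = 0 := by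
    intro u hu
    rcases hcases u with h | ⟨x, hx, rfl⟩
    · exact h
    · exfalso
      refine H.row_ne_zero hx (funext fun z => ?_)
      have h := hu ⟨row D (z : G), hrow z.2⟩
      rw [hBF, hFsymm, hFrow _ z.2] at h
      exact h
  have hnd : B.Nondegenerate :=
    ⟨hn1, fun v hv => hn1 v fun u => by rw [hBF, hFsymm, ← hBF]; exact hv u⟩
  -- the representation
  have hmap : ∀ g : G, ∀ u ∈ W, H.act g u ∈ W := by
    rintro g u (rfl | ⟨x, hx, rfl⟩)
    · exact Or.inl (map_zero _)
    · exact Or.inr ⟨_, C.conj g x hx, H.act_row g x⟩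
  let rep : G →* (W ≃ₗ[ZMod 2] W) :=
    { toFun := fun g =>
        { toFun := fun u => ⟨H.act g u, hmap g u u.2⟩
          invFun := fun u => ⟨H.act g⁻¹ u, hmap g⁻¹ u u.2⟩
          map_add' := fun u v => Subtype.ext (map_add _ _ _)
          map_smul' := fun c u => Subtype.ext (map_smul _ _ _)
          left_inv := fun u => Subtype.ext (by
            show H.act g⁻¹ (H.act g u) = _
            rw [← H.act_mul, inv_mul_cancel, H.act_one])
          right_inv := fun u => Subtype.ext (by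
            show H.act g (H.act g⁻¹ u) = _
            rw [← H.act_mul, mul_inv_cancel, H.act_one]) }
      map_one' := LinearEquiv.ext fun u => Subtype.ext (H.act_one _)
      map_mul' := fun g h => LinearEquiv.ext fun u => Subtype.ext (H.act_mul g h _) }
  have hrep : ∀ g u, (rep g u : D → ZMod 2) = H.act g u := fun g u => rfl
  have hrep_row : ∀ g x (hx : x ∈ D),
      rep g ⟨row D x, hrow hx⟩ = ⟨row D (g * x * g⁻¹), hrow (C.conj g x hx)⟩ :=
    fun g x hx => Subtype.ext (H.act_row g x)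
  have hiso : ∀ g u v, B (rep g u) (rep g v) = B u v := by
    intro g u v
    rcases hcases u with rfl | ⟨x, hx, rfl⟩
    · simp
    · rw [hrep_row _ _ hx, hBF, hBF, hFrow _ (C.conj g x hx), hFrow _ hx, hrep]
      exact H.act_at g (v : D → ZMod 2) x hx
  have hinj : Function.Injective rep := by
    rw [injective_iff_map_eq_one]
    intro g hg
    have hfix : ∀ x ∈ D, g * x * g⁻¹ = x := by
      intro x hx
      have h := hrep_row g x hx
      rw [hg] at h
      exact (H.row_inj hx (C.conj g x hx) (congrArg Subtype.val h)).symm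
    have : g ∈ Subgroup.center G := by
      rw [Subgroup.mem_center_iff]
      have hle : Subgroup.closure D ≤ Subgroup.centralizer {g} := by
        rw [Subgroup.closure_le]
        exact fun x hx =>
          Subgroup.mem_centralizer_singleton_iff.2 (mul_inv_eq_iff_eq_mul.1 (hfix x hx)).symm
      intro y
      exact Subgroup.mem_centralizer_singleton_iff.1 (hle (H.cls.2.2 ▸ Subgroup.mem_top y))
    rwa [H.center, Subgroup.mem_bot] at this
  have hsurj : ∀ f : W ≃ₗ[ZMod 2] W, (∀ u v, B (f u) (f v) = B u v) → ∃ g, rep g = f := by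
    intro f hf
    refine MonoidHom.mem_range.1 (H99.Transv.isometry_mem_of_transvections halt hnd rep.range ?_ hf)
    intro w c
    rcases hcases w with rfl | ⟨x, hx, rfl⟩
    · refine ⟨1, LinearEquiv.ext fun y => ?_⟩
      rw [map_one, H99.Transv.sympTv_apply, smul_zero, add_zero]; rfl
    rcases (by decide : ∀ c : ZMod 2, c = 0 ∨ c = 1) c with rfl | rfl
    · refine ⟨1, LinearEquiv.ext fun y => ?_⟩
      rw [map_one, H99.Transv.sympTv_apply, zero_mul, zero_smul, add_zero]; rfl
    refine ⟨x, LinearEquiv.ext fun y => ?_⟩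
    rw [H99.Transv.sympTv_apply, one_mul]
    rcases hcases y with rfl | ⟨z, hz, rfl⟩
    · simp
    rw [hrep_row _ _ hz, hBF, hFrow _ hx]
    by_cases hc : Commute x z
    · rw [show ((⟨row D z, hrow hz⟩ : W) : D → ZMod 2) ⟨x, hx⟩ = 0 from row_eq_zero.2 hc.symm,
        zero_smul, add_zero]
      exact Subtype.ext (by show row D (x * z * x⁻¹) = row D z; rw [hc.eq, mul_inv_cancel_right])
    · rw [show ((⟨row D z, hrow hz⟩ : W) : D → ZMod 2) ⟨x, hx⟩ = 1 by
        simp [row, show ¬ Commute z x from fun e => hc e.symm], one_smul]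
      refine Subtype.ext ?_
      show row D (x * z * x⁻¹) = row D z + row D x
      rw [← C.cj_eq hx, H.row_cj h3 hx hz hc, add_comm]
  -- a symplectic basis
  obtain ⟨n, k, b, hspan, hcard, hij, hll, hrr, hrad⟩ :=
    H43.exists_symplectic_basis (F := ZMod 2) _ W B halt rfl
  set bb := basisOfTopLeSpanOfCardEqFinrank b hspan.ge (by simp [hcard]) with hbb
  have hbe : ⇑bb = b := coe_basisOfTopLeSpanOfCardEqFinrank _ _ _
  have hk : k = 0 := by
    by_contra hk
    have h0 : bb (Sum.inr ⟨0, Nat.pos_of_ne_zero hk⟩) = 0 := by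
      rw [hbe]; exact hnd.1 _ (hrad _)
    exact bb.ne_zero _ h0
  subst hk
  set b₂ := bb.reindex (Equiv.sumEmpty (Fin n ⊕ Fin n) (Fin 0)) with hb₂
  have hJ : LinearMap.BilinForm.toMatrix b₂ B = Matrix.J (Fin n) (ZMod 2) := by
    have hneg : (-1 : ZMod 2) = 1 := by decide
    ext i j
    rw [LinearMap.BilinForm.toMatrix_apply, hb₂, Module.Basis.reindex_apply, Module.Basis.reindex_apply, hbe]
    rcases i with i | i <;> rcases j with j | j <;>
      simp only [Matrix.J, Matrix.fromBlocks_apply₁₁, Matrix.fromBlocks_apply₁₂,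
        Matrix.fromBlocks_apply₂₁, Matrix.fromBlocks_apply₂₂, Equiv.sumEmpty_symm_apply,
        Matrix.zero_apply, Matrix.one_apply, Matrix.neg_apply]
    · exact hll i j
    · rw [hij i j]; split_ifs <;> simp [hneg]
    · rw [hBF, hFsymm, ← hBF, hij j i]; exact if_congr eq_comm rfl rfl
    · exact hrr i j
  have hmem : ∀ f : W →ₗ[ZMod 2] W,
      LinearMap.toMatrix b₂ b₂ f ∈ Matrix.symplecticGroup (Fin n) (ZMod 2) ↔
        ∀ u v, B (f u) (f v) = B u v := by
    intro f
    rw [SymplecticGroup.mem_iff', ← hJ, ← LinearMap.BilinForm.toMatrix_comp b₂ b₂]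
    constructor
    · intro h u v
      exact LinearMap.congr_fun₂ ((LinearMap.BilinForm.toMatrix b₂).injective h) u v
    · intro h
      exact congrArg _ (LinearMap.ext₂ h)
  let Φ : G →* Matrix.symplecticGroup (Fin n) (ZMod 2) :=
    { toFun := fun g => ⟨LinearMap.toMatrix b₂ b₂ (rep g : W →ₗ[ZMod 2] W), (hmem _).2 (hiso g)⟩
      map_one' := Subtype.ext (by
        show LinearMap.toMatrix b₂ b₂ ((rep 1 : W ≃ₗ[ZMod 2] W) : W →ₗ[ZMod 2] W) = 1
        rw [map_one]; exact LinearMap.toMatrix_one b₂)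
      map_mul' := fun g h => Subtype.ext (by
        show LinearMap.toMatrix b₂ b₂ ((rep (g * h) : W ≃ₗ[ZMod 2] W) : W →ₗ[ZMod 2] W) = _
        rw [map_mul]; exact LinearMap.toMatrix_comp b₂ b₂ b₂ _ _) }
  have hpt : ∀ u : W, ∃ a : G, u ≠ 0 → ∃ h : a ∈ D, u = ⟨row D a, hrow h⟩ := by
    intro u
    rcases hcases u with h | ⟨a, ha, h⟩
    · exact ⟨1, fun h' => absurd h h'⟩
    · exact ⟨a, fun _ => ⟨ha, h⟩⟩
  choose pnt hpnt using hpt
  have hne : ∀ u, u ≠ 0 → b₂.equivFun.symm u ≠ 0 := fun u hu h =>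
    hu (b₂.equivFun.symm.map_eq_zero_iff.1 h)
  have hΦb : Function.Bijective Φ := by
    refine ⟨fun g h e => hinj ?_, fun A => ?_⟩
    · exact LinearEquiv.toLinearMap_injective
        ((LinearMap.toMatrix b₂ b₂).injective (congrArg Subtype.val e))
    · set f := Matrix.toLin b₂ b₂ (A : Matrix _ _ _) with hf
      have hfA : LinearMap.toMatrix b₂ b₂ f = A := LinearMap.toMatrix_toLin _ _ _
      have hfi : ∀ u v, B (f u) (f v) = B u v := (hmem f).1 (hfA.symm ▸ A.2)
      have hfinj : Function.Injective f := by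
        rw [injective_iff_map_eq_zero]
        intro u hu
        exact hnd.1 u fun v => by rw [← hfi, hu, map_zero, LinearMap.zero_apply]
      obtain ⟨g, hg⟩ := hsurj (LinearEquiv.ofInjectiveEndo f hfinj) hfi
      exact ⟨g, Subtype.ext (by
        show LinearMap.toMatrix b₂ b₂ (rep g : W →ₗ[ZMod 2] W) = _
        rw [hg, ← hfA]; rfl)⟩
  have hrank : ∀ g : G, (((Φ g : Matrix.symplecticGroup (Fin n) (ZMod 2)) :
      Matrix (Fin n ⊕ Fin n) (Fin n ⊕ Fin n) (ZMod 2)) - 1).rank =
      Module.finrank (ZMod 2) (LinearMap.range ((rep g : W →ₗ[ZMod 2] W) - LinearMap.id)) := by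
    intro g
    rw [Matrix.rank_eq_finrank_range_toLin _ b₂ b₂, map_sub, Matrix.toLin_one,
      show ((Φ g : Matrix.symplecticGroup (Fin n) (ZMod 2)) :
        Matrix (Fin n ⊕ Fin n) (Fin n ⊕ Fin n) (ZMod 2)) =
        LinearMap.toMatrix b₂ b₂ (rep g : W →ₗ[ZMod 2] W) from rfl, Matrix.toLin_toMatrix]
  have hrepD : ∀ x (hx : x ∈ D) (y : W),
      rep x y = y + B ⟨row D x, hrow hx⟩ y • (⟨row D x, hrow hx⟩ : W) := by
    intro x hx y
    rcases hcases y with rfl | ⟨z, hz, rfl⟩
    · simp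
    rw [hrep_row _ _ hz, hBF, hFrow _ hx]
    by_cases hc : Commute x z
    · rw [show ((⟨row D z, hrow hz⟩ : W) : D → ZMod 2) ⟨x, hx⟩ = 0 from row_eq_zero.2 hc.symm,
        zero_smul, add_zero]
      exact Subtype.ext (by show row D (x * z * x⁻¹) = row D z; rw [hc.eq, mul_inv_cancel_right])
    · rw [show ((⟨row D z, hrow hz⟩ : W) : D → ZMod 2) ⟨x, hx⟩ = 1 by
        simp [row, show ¬ Commute z x from fun e => hc e.symm], one_smul]
      refine Subtype.ext ?_
      show row D (x * z * x⁻¹) = row D z + row D x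
      rw [← C.cj_eq hx, H.row_cj h3 hx hz hc, add_comm]
  have hn2 : 2 ≤ n := by
    obtain ⟨a, ha, a', ha', hne, hc⟩ := H.width
    set u : W := ⟨row D a, hrow ha⟩ with hu
    set v : W := ⟨row D a', hrow ha'⟩ with hv
    have hu0 : u ≠ 0 := fun h => H.row_ne_zero ha (congrArg Subtype.val h)
    have hv0 : v ≠ 0 := fun h => H.row_ne_zero ha' (congrArg Subtype.val h)
    have huv : b₂.equivFun u ≠ b₂.equivFun v := fun h =>
      hne (H.row_inj ha ha' (congrArg Subtype.val (b₂.equivFun.injective h)))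
    have hu1 : b₂.equivFun u ≠ 0 := fun h => hu0 (b₂.equivFun.map_eq_zero_iff.1 h)
    have hv1 : b₂.equivFun v ≠ 0 := fun h => hv0 (b₂.equivFun.map_eq_zero_iff.1 h)
    have h0 : b₂.equivFun u ⬝ᵥ (Matrix.J (Fin n) (ZMod 2) *ᵥ b₂.equivFun v) = 0 := by
      have h1 : B u v = b₂.equivFun u ⬝ᵥ (Matrix.J (Fin n) (ZMod 2) *ᵥ b₂.equivFun v) := by
        conv_lhs => rw [← Matrix.toBilin_toMatrix b₂ B, hJ, Matrix.toBilin_apply]
        simp only [Module.Basis.equivFun_apply, dotProduct, Matrix.mulVec, Finset.mul_sum, mul_assoc]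
      rw [← h1, hBF, hFrow _ ha]
      exact row_eq_zero.2 hc.symm
    by_contra h
    rcases (show n = 0 ∨ n = 1 by omega) with rfl | rfl
    · exact hu1 (Subsingleton.elim _ _)
    · exact huv (two_le_of_orth _ _ hu1 hv1 h0)
  refine ⟨n, hn2, MulEquiv.ofBijective Φ hΦb, Set.Subset.antisymm ?_ ?_⟩
  · rintro _ ⟨x, hx, rfl⟩
    show (((Φ x : Matrix.symplecticGroup (Fin n) (ZMod 2)) :
      Matrix (Fin n ⊕ Fin n) (Fin n ⊕ Fin n) (ZMod 2)) - 1).rank = 1
    set u : W := ⟨row D x, hrow hx⟩ with hu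
    have hu0 : u ≠ 0 := fun h => H.row_ne_zero hx (congrArg Subtype.val h)
    have hr : LinearMap.range ((rep x : W →ₗ[ZMod 2] W) - LinearMap.id) =
        Submodule.span (ZMod 2) {u} := by
      refine le_antisymm ?_ ?_
      · rintro _ ⟨y, rfl⟩
        rw [LinearMap.sub_apply, LinearMap.id_apply, LinearEquiv.coe_coe, hrepD x hx,
          add_sub_cancel_left]
        exact Submodule.smul_mem _ _ (Submodule.mem_span_singleton_self u)
      · rw [Submodule.span_singleton_le_iff_mem]
        obtain ⟨y, hy⟩ : ∃ y, B u y ≠ 0 := by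
          by_contra! h
          exact hu0 (hn1 u h)
        refine ⟨y, ?_⟩
        rw [LinearMap.sub_apply, LinearMap.id_apply, LinearEquiv.coe_coe, hrepD x hx,
          add_sub_cancel_left, (by decide : ∀ c : ZMod 2, c ≠ 0 → c = 1) _ hy, one_smul]
    rw [hrank, hr, finrank_span_singleton hu0]
  · intro A hA
    obtain ⟨g, rfl⟩ := hΦb.2 A
    obtain ⟨v, hv0, hv⟩ := finrank_eq_one_iff'.1 ((hrank g).symm.trans hA)
    have hdec : ∀ y, ∃ c : ZMod 2, rep g y = y + c • (v : W) := by
      intro y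
      obtain ⟨c, hc⟩ := hv ⟨_, LinearMap.mem_range_self _ y⟩
      refine ⟨c, ?_⟩
      have h := congrArg Subtype.val hc
      simp only [Submodule.coe_smul, LinearMap.sub_apply, LinearMap.id_apply,
        LinearEquiv.coe_coe] at h
      rw [h, add_sub_cancel]
    choose c hc using hdec
    have hv' : (v : W) ≠ 0 := fun h => hv0 (Subtype.ext h)
    rcases hcases (v : W) with h | ⟨x, hx, hvx⟩
    · exact absurd h hv'
    refine ⟨x, hx, congrArg Φ (hinj (LinearEquiv.ext fun y => ?_))⟩
    have hkey : ∀ y y' : W, c y * B (v : W) y' + c y' * B y (v : W) = 0 := by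
      intro y y'
      have h := hiso g y y'
      rw [hc y, hc y'] at h
      simp only [map_add, map_smul, LinearMap.add_apply, LinearMap.smul_apply, smul_eq_mul,
        halt (v : W), mul_zero, add_zero] at h
      linear_combination h
    obtain ⟨y₀, hy₀⟩ : ∃ y₀, c y₀ ≠ 0 := by
      by_contra! h
      obtain ⟨w, hw⟩ := LinearMap.mem_range.1 v.2
      apply hv'
      rw [← hw, LinearMap.sub_apply, LinearMap.id_apply, LinearEquiv.coe_coe, hc w, h w,
        zero_smul, add_zero, sub_self]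
    have hone : c y₀ = 1 := (by decide : ∀ c : ZMod 2, c ≠ 0 → c = 1) _ hy₀
    have hsym : ∀ y, B y (v : W) = B (v : W) y := fun y => hFsymm _ _
    obtain ⟨y', hy'⟩ : ∃ y', B (v : W) y' ≠ 0 := by
      by_contra! h
      exact hv' (hn1 _ h)
    have hcy : c y = B (v : W) y := by
      have h1 : B (v : W) y₀ = 1 := by
        have h := hkey y₀ y'
        rw [hone, one_mul, hsym] at h
        by_contra hne
        rw [(by decide : ∀ c : ZMod 2, c ≠ 1 → c = 0) _ hne, mul_zero, add_zero] at h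
        exact hy' h
      have h := hkey y y₀
      rw [h1, mul_one, hone, one_mul, hsym] at h
      exact CharTwo.add_eq_zero.1 h
    rw [hrepD x hx, hc, hcy, hvx]

end H84.CoreCase
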