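/-
Five-point lines: an isomorphism with the projective special unitary group over the field with
four elements taking the class onto the images of the transvections.
-/
import Cfsg.Agent.H7.TT.PSU

set_option autoImplicit false
set_option linter.unusedSectionVars false

namespace H84.CoreCase

open Cfsg H99 H7.TT Matrix

variable {G : Type*} [Group G] [Finite G] {D : Set G}
variable {F : Type*} [Field F] [Fintype F] {n : ℕ}

theorem rank_sub_one_ut {v : Fin n → F} {d : F} (hF : Fintype.card F = 2 ^ 2) (hv : v ≠ 0)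
    (hd : d ≠ 0) : (unitaryTransvection n 2 v d - 1).rank = 1 := by
  have hmv : ∀ x, (unitaryTransvection n 2 v d - 1) *ᵥ x = (d * hermForm n F 2 x v) • v := by
    intro x
    rw [Matrix.sub_mulVec, Matrix.one_mulVec, H50.ut_mulVec, add_sub_cancel_left]
  rw [Matrix.rank]
  have : LinearMap.range (unitaryTransvection n 2 v d - 1).mulVecLin = Submodule.span F {v} := by
    refine le_antisymm ?_ ?_
    · rintro _ ⟨x, rfl⟩
      rw [Matrix.mulVecLin_apply, hmv]
      exact Submodule.smul_mem _ _ (Submodule.mem_span_singleton_self v)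
    · rw [Submodule.span_singleton_le_iff_mem]
      obtain ⟨x, hx⟩ : ∃ x, hermForm n F 2 x v ≠ 0 := by
        by_contra! h
        exact hv (H50.eq_zero_of_h_right hF h)
      refine ⟨(d * hermForm n F 2 x v)⁻¹ • x, ?_⟩
      rw [map_smul, Matrix.mulVecLin_apply, hmv, smul_smul,
        inv_mul_cancel₀ (mul_ne_zero hd hx), one_smul]
  rw [this, finrank_span_singleton hv]

/-- An element of `SU` differing from one by a matrix of rank one is a transvection. -/
theorem exists_ut_of_rank_one (hF : Fintype.card F = 2 ^ 2) {A : SU n F 2}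
    (hA : (H50.suMat A - 1).rank = 1) : ∃ (v : Fin n → F) (d : F), v ≠ 0 ∧ d ≠ 0 ∧
      hermForm n F 2 v v = 0 ∧ H50.suMat A = unitaryTransvection n 2 v d := by
  rw [Matrix.rank] at hA
  obtain ⟨v, hv0, hv⟩ := finrank_eq_one_iff'.1 hA
  have hdec : ∀ y, ∃ c : F, H50.suMat A *ᵥ y = y + c • (v : Fin n → F) := by
    intro y
    obtain ⟨c, hc⟩ := hv ⟨_, LinearMap.mem_range_self _ y⟩
    refine ⟨c, ?_⟩
    have h := congrArg Subtype.val hc
    simp only [Submodule.coe_smul, Matrix.mulVecLin_apply, Matrix.sub_mulVec,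
      Matrix.one_mulVec] at h
    rw [h, add_sub_cancel]
  choose c hc using hdec
  have hv' : (v : Fin n → F) ≠ 0 := fun h => hv0 (Subtype.ext h)
  generalize (v : Fin n → F) = w at hc hv'
  obtain ⟨y₀, hy₀⟩ : ∃ y₀, c y₀ ≠ 0 := by
    by_contra! h
    have h1 : A = 1 := H50.suMat_ext fun u => by
      rw [hc, h, zero_smul, add_zero, H50.suMat_one, Matrix.one_mulVec]
    rw [h1, H50.suMat_one, sub_self, Matrix.mulVecLin_zero, LinearMap.range_zero, finrank_bot] at hA
    exact zero_ne_one hA
  have hkey : ∀ y, c y * (hermForm n F 2 w y₀ + c y₀ ^ 2 * hermForm n F 2 w w) =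
      -(c y₀ ^ 2 * hermForm n F 2 y w) := by
    intro y
    have h := H50.suMat_h A y y₀
    rw [hc, hc, H50.h_add_left, H50.h_add_right hF, H50.h_add_right hF, H50.h_smul_left,
      H50.h_smul_left, H50.h_smul_right hF, H50.h_smul_right hF] at h
    linear_combination h
  have hk : hermForm n F 2 w y₀ + c y₀ ^ 2 * hermForm n F 2 w w ≠ 0 := by
    intro h0
    apply hv'
    refine H50.eq_zero_of_h_right hF fun y => ?_
    have h := hkey y
    rw [h0, mul_zero, zero_eq_neg, mul_eq_zero] at h
    exact h.resolve_left (pow_ne_zero 2 hy₀)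
  set d := -(c y₀ ^ 2) / (hermForm n F 2 w y₀ + c y₀ ^ 2 * hermForm n F 2 w w) with hd
  have hcy : ∀ y, c y = d * hermForm n F 2 y w := by
    intro y
    rw [hd, div_mul_eq_mul_div, eq_div_iff hk, hkey, neg_mul]
  have hAe : H50.suMat A = unitaryTransvection n 2 w d :=
    Matrix.ext_of_mulVec_single fun i => by rw [hc, hcy, H50.ut_mulVec]
  have hd0 : d ≠ 0 := div_ne_zero (neg_ne_zero.2 (pow_ne_zero 2 hy₀)) hk
  refine ⟨w, d, hv', hd0, ?_, hAe⟩
  have h1 : (H50.suMat A).det = 1 := A.1.2
  rw [hAe, H50.ut_det, add_eq_left, mul_eq_zero] at h1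
  exact h1.resolve_left hd0

variable {vec : G → Fin n → F}

/-- Five-point lines: the class goes to the images of the transvections. -/
theorem psu_case (H : Geo D) (h5 : FivePt D) (hF : Fintype.card F = 2 ^ 2) (hn : 4 ≤ n)
    (R : Rep D n vec) : ∃ e : G ≃* PSU n F 2,
      e '' D = (QuotientGroup.mk : ↥(SU n F 2) → PSU n F 2) ''
        {g : ↥(SU n F 2) | (H50.suMat g - 1).rank = 1} := by
  classical
  have C := H.closed
  have hex : ∀ (g : SU n F 2) (a : D),
      ∃ b : D, ∃ l : F, H50.suMat g *ᵥ vec a.1 = l • vec b.1 := by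
    intro g a
    obtain ⟨h0, h1⟩ := R.iso a.1 a.2
    obtain ⟨b, hb, l, hl⟩ := R.onto (H50.suMat g *ᵥ vec a.1)
      (fun h => h0 (by rw [← H50.suMat_inv_mulVec g (vec a.1), h, Matrix.mulVec_zero]))
      (by rw [H50.suMat_h, h1])
    exact ⟨⟨b, hb⟩, l, hl⟩
  choose act lam hact using hex
  have huni : ∀ (g : SU n F 2) (a b : D) (l : F),
      H50.suMat g *ᵥ vec a.1 = l • vec b.1 → act g a = b := by
    intro g a b l h
    rw [hact] at h
    have hne : lam g a ≠ 0 := fun h0 => by
      have h2 := hact g a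
      rw [h0, zero_smul] at h2
      exact (R.iso a.1 a.2).1 (by rw [← H50.suMat_inv_mulVec g (vec a.1), h2, Matrix.mulVec_zero])
    refine Subtype.ext (R.eq_of_smul hF H (act g a).2 b.2 (l := (lam g a)⁻¹ * l) ?_)
    rw [← smul_smul, ← h, smul_smul, inv_mul_cancel₀ hne, one_smul]
  have hmul : ∀ g g' a, act (g * g') a = act g (act g' a) := fun g g' a =>
    huni _ _ _ (lam g' a * lam g (act g' a)) (by
      rw [H50.suMat_mulVec_mul, hact g' a, Matrix.mulVec_smul, hact g, smul_smul])
  have hone : ∀ a, act 1 a = a := fun a => huni _ _ _ 1 (by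
    rw [H50.suMat_one, Matrix.one_mulVec, one_smul])
  let π : SU n F 2 →* Equiv.Perm D := MonoidHom.mk'
    (fun g => ⟨act g, act g⁻¹,
      fun a => by rw [← hmul, inv_mul_cancel, hone],
      fun a => by rw [← hmul, mul_inv_cancel, hone]⟩)
    (fun g g' => Equiv.ext (hmul g g'))
  have hπ : ∀ g a, π g a = act g a := fun g a => rfl
  let κ : G →* Equiv.Perm D := MonoidHom.mk'
    (fun g => ⟨fun a => ⟨g * a * g⁻¹, C.conj g _ a.2⟩, fun a => ⟨g⁻¹ * a * g, by
        simpa using C.conj g⁻¹ _ a.2⟩,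
      fun a => Subtype.ext (by show g⁻¹ * (g * a * g⁻¹) * g = a; group),
      fun a => Subtype.ext (by show g * (g⁻¹ * a * g) * g⁻¹ = a; group)⟩)
    (fun g g' => Equiv.ext fun a => Subtype.ext (by
      show g * g' * a * (g * g')⁻¹ = g * (g' * a * g'⁻¹) * g⁻¹
      group))
  have hκ : ∀ g (a : D), (κ g a : G) = g * a * g⁻¹ := fun g a => rfl
  -- transvections
  have htv : ∀ (A : SU n F 2) (x : D) (d : F), d ≠ 0 →
      (∀ u, H50.suMat A *ᵥ u = u + (d * hermForm n F 2 u (vec x.1)) • vec x.1) → π A = κ x := by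
    intro A x d hd hA
    obtain ⟨hx0, hx1⟩ := R.iso x.1 x.2
    refine Equiv.ext fun a => ?_
    rw [hπ]
    by_cases hc : Commute (x : G) a
    · refine huni _ _ _ 1 ?_
      rw [hA, (R.comm a.1 a.2 x.1 x.2).1 hc.symm, mul_zero, zero_smul, add_zero, one_smul,
        show κ x a = a from Subtype.ext (by rw [hκ, hc.eq, mul_inv_cancel_right])]
    · set b := act A a with hb
      have hab := hA (vec a.1)
      rw [hact, ← hb] at hab
      set t := hermForm n F 2 (vec a.1) (vec x.1) with ht
      have ht0 : t ≠ 0 := fun h => hc ((R.comm a.1 a.2 x.1 x.2).2 h).symm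
      have hl : lam A a ≠ 0 := fun h0 => by
        have h2 := hact A a
        rw [h0, zero_smul] at h2
        exact (R.iso a.1 a.2).1 (by rw [← H50.suMat_inv_mulVec A (vec a.1), h2, Matrix.mulVec_zero])
      have hhb : ∀ u, lam A a * hermForm n F 2 (vec b.1) u =
          hermForm n F 2 (vec a.1) u + d * t * hermForm n F 2 (vec x.1) u := fun u => by
        rw [← H50.h_smul_left, hab, H50.h_add_left, H50.h_smul_left]
      have hbx : ¬ Commute (x : G) b := fun h => ht0 (by
        have h2 := hhb (vec x.1)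
        rw [(R.comm b.1 b.2 x.1 x.2).1 h.symm, hx1, mul_zero, mul_zero, add_zero] at h2
        exact h2.symm)
      have hba : ¬ Commute (b : G) a := fun h => by
        have h2 := hhb (vec a.1)
        rw [(R.comm b.1 b.2 a.1 a.2).1 h, (R.iso a.1 a.2).2, mul_zero, zero_add] at h2
        rcases mul_eq_zero.1 h2.symm with h3 | h3
        · exact (mul_ne_zero hd ht0) h3
        · exact hc ((R.comm x.1 x.2 a.1 a.2).2 h3)
      rcases hyperbolic_third H h5 x.2 a.2 hc b.2 hbx (fun m hm => by
        refine (R.comm b.1 b.2 m hm.1.1).2 ((mul_eq_zero.1 ?_).resolve_left hl)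
        rw [hhb, (R.comm a.1 a.2 m hm.1.1).1 hm.2.2.2, (R.comm x.1 x.2 m hm.1.1).1 hm.1.2.2,
          mul_zero, add_zero]) with h | h
      · exact absurd (h ▸ Commute.refl (a : G)) hba
      · exact Subtype.ext (by rw [h, hκ, C.cj_eq x.2])
  have hrange : π.range = κ.range := by
    refine le_antisymm ?_ ?_
    · rintro _ ⟨g, rfl⟩
      have hg : g ∈ H50.transSub n 2 F := by
        rw [H50.transSub_eq_top hF n (by omega) (by omega)]; exact Subgroup.mem_top g
      refine (show H50.transSub n 2 F ≤ κ.range.comap π from ?_) hg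
      rw [H50.transSub, Subgroup.closure_le]
      rintro A ⟨v, d, hv, hA⟩
      show π A ∈ κ.range
      by_cases hvd : v = 0 ∨ d = 0
      · have : A = 1 := H50.suMat_ext fun u => by
          rw [hA, H50.ut_mulVec, H50.suMat_one, Matrix.one_mulVec]
          rcases hvd with h | h <;> simp [h]
        rw [this, map_one]
        exact one_mem _
      obtain ⟨hv0, hd0⟩ := not_or.1 hvd
      obtain ⟨x, hx, l, rfl⟩ := R.onto v hv0 hv
      have hl : l ≠ 0 := fun h => hv0 (by rw [h, zero_smul])
      refine ⟨x, (htv A ⟨x, hx⟩ (d * (l * l ^ 2)) (mul_ne_zero hd0 (mul_ne_zero hl (pow_ne_zero 2 hl)))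
        fun u => ?_).symm⟩
      rw [hA, H50.ut_mulVec, H50.h_smul_right hF, smul_smul]
      congr 2
      ring
    · rintro _ ⟨g, rfl⟩
      have hg : g ∈ Subgroup.closure D := H.cls.2.2 ▸ Subgroup.mem_top g
      refine (show Subgroup.closure D ≤ π.range.comap κ from ?_) hg
      rw [Subgroup.closure_le]
      intro x hx
      have h1 : (1 : F) + (1 : F) ^ 2 = 0 := by
        obtain ⟨w, hw⟩ := exists_four hF
        linear_combination hw.two
      exact ⟨H50.tv hF (vec x) 1 (R.iso x hx).2 h1,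
        htv _ ⟨x, hx⟩ 1 one_ne_zero (H50.tv_mulVec hF _ 1 _ h1)⟩
  have hker : π.ker = Subgroup.center (SU n F 2) := by
    ext g
    rw [MonoidHom.mem_ker, H50.mem_center_iff_scalar hF (by omega)]
    constructor
    · intro h
      have hfix : ∀ a, act g a = a := fun a => by rw [← hπ, h]; rfl
      obtain ⟨l, -, hl⟩ := H50.scalar_of_isotropic_eigen hF (by omega) (H50.SU_isIso g)
        (fun u hu0 hu => by
          obtain ⟨a, ha, l, rfl⟩ := R.onto u hu0 hu
          refine ⟨lam g ⟨a, ha⟩, ?_⟩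
          show H50.suMat g *ᵥ (l • vec a) = _
          have h2 := hact g ⟨a, ha⟩
          rw [hfix] at h2
          rw [Matrix.mulVec_smul, h2, smul_comm])
      exact ⟨l, hl⟩
    · rintro ⟨l, hl⟩
      refine Equiv.ext fun a => huni g a a l ?_
      rw [hl, Matrix.smul_mulVec, Matrix.one_mulVec]
  have hinj : Function.Injective κ := by
    rw [injective_iff_map_eq_one]
    intro g hg
    have hle : Subgroup.closure D ≤ Subgroup.centralizer {g} := by
      rw [Subgroup.closure_le]
      intro x hx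
      have := congrArg Subtype.val (DFunLike.congr_fun hg ⟨x, hx⟩)
      rw [hκ] at this
      exact Subgroup.mem_centralizer_singleton_iff.2 (mul_inv_eq_iff_eq_mul.1 this).symm
    have : g ∈ Subgroup.center G := Subgroup.mem_center_iff.2 fun y =>
      Subgroup.mem_centralizer_singleton_iff.1 (hle (H.cls.2.2 ▸ Subgroup.mem_top y))
    rwa [H.center, Subgroup.mem_bot] at this
  set e : G ≃* PSU n F 2 := (MonoidHom.ofInjective hinj).trans
    ((MulEquiv.subgroupCongr hrange.symm).trans ((QuotientGroup.quotientKerEquivRange π).symm.trans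
      (QuotientGroup.quotientMulEquivOfEq hker))) with he
  have hev : ∀ (g : G) (A : SU n F 2), π A = κ g → e g = QuotientGroup.mk A := by
    intro g A hgA
    have h1 : (MulEquiv.subgroupCongr hrange.symm) (MonoidHom.ofInjective hinj g) =
        QuotientGroup.quotientKerEquivRange π (QuotientGroup.mk A) := Subtype.ext hgA.symm
    rw [he, MulEquiv.trans_apply, MulEquiv.trans_apply, MulEquiv.trans_apply, h1,
      MulEquiv.symm_apply_apply, QuotientGroup.quotientMulEquivOfEq_mk]
  refine ⟨e, Set.Subset.antisymm ?_ ?_⟩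
  · rintro _ ⟨x, hx, rfl⟩
    have h1 : (1 : F) + (1 : F) ^ 2 = 0 := by
      obtain ⟨w, hw⟩ := exists_four hF
      linear_combination hw.two
    exact ⟨H50.tv hF (vec x) 1 (R.iso x hx).2 h1,
      rank_sub_one_ut hF (R.iso x hx).1 one_ne_zero,
      (hev x _ (htv _ ⟨x, hx⟩ 1 one_ne_zero (H50.tv_mulVec hF _ 1 _ h1))).symm⟩
  · rintro _ ⟨A, hA, rfl⟩
    obtain ⟨v, d, hv0, hd0, hv, hAv⟩ := exists_ut_of_rank_one hF hA
    obtain ⟨x, hx, l, rfl⟩ := R.onto v hv0 hv
    have hl : l ≠ 0 := fun h => hv0 (by rw [h, zero_smul])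
    refine ⟨x, hx, hev x A (htv A ⟨x, hx⟩ (d * (l * l ^ 2))
      (mul_ne_zero hd0 (mul_ne_zero hl (pow_ne_zero 2 hl))) fun u => ?_)⟩
    rw [hAv, H50.ut_mulVec, H50.h_smul_right hF, smul_smul]
    congr 2
    ring

end H84.CoreCase
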