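/-
A primitive group of 3-transpositions of width at least two with a non-central local core is the
symmetric group of degree five, a symplectic group over two elements or a unitary group over four.
-/
import Cfsg.Agent.H84.CoreCase.Symp
import Cfsg.Agent.H84.CoreCase.Unitary
import Cfsg.Agent.H7.TT.TwoCore
import Cfsg.Agent.H7.TT.OddCore
import Cfsg.Agent.H71.Fischer.Defs

set_option autoImplicit false
set_option linter.unusedSectionVars false

namespace H84.CoreCase

open Cfsg H99 H7.TT
open scoped commutatorElement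

universe u

variable {G : Type u} [Group G] [Finite G] {D : Set G}

theorem class_of_primitive (hG : IsThreeTranspositionGroup D) (hp : IsPrimitiveUnderConj D) :
    IsThreeTranspositionClass D := by
  obtain ⟨d, hd, -⟩ := hp.2.1
  refine ⟨hG.1, ⟨d, hd, Set.ext fun x => ⟨fun hx => ?_, fun hx => ?_⟩⟩, hG.2.2⟩
  · obtain ⟨g, hg⟩ := hp.1 d hd x hx
    exact isConj_iff.2 ⟨g, hg⟩
  · obtain ⟨g, rfl⟩ := isConj_iff.1 (show IsConj d x from hx)
    exact hG.2.1 g d hd

/-- The derived group is perfect and there is no solvable normal subgroup. -/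
theorem noSolvable_perfect (hD : IsThreeTranspositionClass D) (hp : IsPrimitiveUnderConj D)
    (hw : ∃ a ∈ D, ∃ b ∈ D, a ≠ b ∧ Commute a b) (hZ : Subgroup.center G = ⊥) :
    (∀ N : Subgroup G, N.Normal → Group.IsSolvable ↥N → N = ⊥) ∧
      ⁅commutator G, commutator G⁆ = commutator G := by
  obtain ⟨L, hLn, hL, hidx, -⟩ := prim_component hD hp hw
  have hLG := commutator_eq_component hD hL hidx
  have hperf : ⁅commutator G, commutator G⁆ = commutator G := by
    rw [hLG]; exact Comp.isComponent_perfect hL
  refine ⟨fun N hN hsolv => ?_, hperf⟩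
  haveI := hsolv
  haveI := simple_of_primitive hD hp hw hZ
  rw [← hLG] at hL
  rcases Subgroup.Normal.eq_bot_or_eq_top (H := N.subgroupOf (commutator G)) inferInstance with h | h
  · rw [Subgroup.subgroupOf_eq_bot, disjoint_iff] at h
    rw [eq_bot_iff]
    intro x hx
    rw [← hZ]
    refine centralizer_component_le_center hD (prim_pCore_two hD hp) (prim_pCore_three hD hp hw) hL
      fun u hu => ?_
    have hm : ⁅x, u⁆ ∈ N ⊓ commutator G := by
      refine ⟨?_, Subgroup.commutator_mem_commutator (Subgroup.mem_top _) (Subgroup.mem_top _)⟩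
      rw [commutatorElement_def, mul_assoc, mul_assoc]
      exact mul_mem hx (by simpa [mul_assoc] using hN.conj_mem _ (inv_mem hx) u)
    rw [h, Subgroup.mem_bot] at hm
    exact commutatorElement_eq_one_iff_mul_comm.1 hm
  · exfalso
    haveI : Group.IsSolvable (commutator G) :=
      Group.isSolvable_of_isSolvable_injective (f := Subgroup.inclusion (Subgroup.subgroupOf_eq_top.1 h))
        (Subgroup.inclusion_injective _)
    refine (Group.IsSolvable.commutator_lt_top_of_nontrivial (G := commutator G)).ne ?_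
    apply Subgroup.map_injective (commutator G).subtype_injective
    rw [Subgroup.map_subtype_commutator, hperf, ← MonoidHom.range_eq_map, Subgroup.range_subtype]

theorem cycle_shape : ∀ σ : Equiv.Perm (Fin 5), σ * σ = 1 → Equiv.Perm.sign σ = -1 → σ.IsSwap := by
  intro σ h2 hs
  rw [← Equiv.Perm.card_support_eq_two]
  have key : ∀ τ : Equiv.Perm (Fin 5), τ * τ = 1 → Equiv.Perm.sign τ = -1 → τ.support.card = 2 := by
    decide +kernel
  exact key σ h2 hs

/-- An isomorphism with the symmetric group of degree five takes the class to the transpositions. -/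
theorem symFive_image (hD : IsThreeTranspositionClass D) (φ : G ≃* Equiv.Perm (Fin 5)) :
    φ '' D = {σ : Equiv.Perm (Fin 5) | σ.IsSwap} := by
  obtain ⟨d, hd, hdD⟩ := hD.2.1
  have hinv : ∀ e ∈ D, φ e * φ e = 1 := fun e he => by
    rw [← map_mul, tt_mul_self hD.1 he, map_one]
  have hsign : ∀ e ∈ D, Equiv.Perm.sign (φ e) = Equiv.Perm.sign (φ d) := by
    intro e he
    rw [hdD] at he
    obtain ⟨g, rfl⟩ := isConj_iff.1 (show IsConj d e from he)
    rw [map_mul, map_mul, map_mul, map_mul, mul_comm (Equiv.Perm.sign (φ g)), mul_assoc,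
      map_inv, map_inv, mul_inv_cancel, mul_one]
  have hodd : Equiv.Perm.sign (φ d) = -1 := by
    rcases Int.units_eq_one_or (Equiv.Perm.sign (φ d)) with h | h
    · exfalso
      have hle : Subgroup.closure D ≤ (Equiv.Perm.sign.comp φ.toMonoidHom).ker := by
        rw [Subgroup.closure_le]
        intro e he
        exact (hsign e he).trans h
      obtain ⟨g, hg⟩ := φ.surjective (Equiv.swap 0 1)
      have := hle (hD.2.2 ▸ Subgroup.mem_top g)
      rw [MonoidHom.mem_ker, MonoidHom.comp_apply] at this
      simp [hg] at this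
    · exact h
  refine Set.Subset.antisymm ?_ ?_
  · rintro _ ⟨e, he, rfl⟩
    exact cycle_shape _ (hinv e he) ((hsign e he).trans hodd)
  · intro σ hσ
    obtain ⟨x, y, hxy, hxy'⟩ := cycle_shape _ (hinv d hd) hodd
    obtain ⟨i, j, hij, rfl⟩ := hσ
    obtain ⟨τ, hτ⟩ := isConj_iff.1 (Equiv.Perm.isConj_swap hxy hij)
    refine ⟨φ.symm τ * d * (φ.symm τ)⁻¹, class_conj_mem hD _ hd, ?_⟩
    rw [map_mul, map_mul, map_inv, MulEquiv.apply_symm_apply, hxy', hτ]

/-- A non-central local core leaves the symmetric group of degree five, the symplectic groups over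
two elements and the unitary groups over four. -/
theorem coreStmt : H71.Fischer.CoreStmt.{u} := by
  intro G _ _ D d hG hp hZ hd hwd hcores
  obtain ⟨b, hb, hbd, hdb⟩ := hwd
  have hw : ∃ a ∈ D, ∃ b ∈ D, a ≠ b ∧ Commute a b := ⟨d, hd, b, hb, hbd.symm, hdb⟩
  have hD := class_of_primitive hG hp
  obtain ⟨hsol, hperf⟩ := noSolvable_perfect hD hp hw hZ
  by_cases hodd : oddCore (Subgroup.closure (perp D d)) ≤
      Subgroup.center (Subgroup.closure (perp D d))
  · have h3 : pCore 3 (Subgroup.closure (perp D d)) ≤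
        Subgroup.center (Subgroup.closure (perp D d)) := by
      haveI : Fact (Nat.Prime 3) := ⟨Nat.prime_three⟩
      haveI := H1.pCore_normal' 3 (Subgroup.closure (perp D d))
      refine le_trans (H1.le_pPrimeCore ?_) hodd
      obtain ⟨k, hk⟩ := IsPGroup.iff_card.1 (H1.isPGroup_pCore 3 (Subgroup.closure (perp D d)))
      rw [hk]
      exact Nat.Coprime.pow_left k (by norm_num)
    have H := geo_of_twoCore hsol hperf hD hd fun h2 => hcores ⟨h3, h2⟩
    rcases H.line_cases with hl | hl
    · obtain ⟨n, hn, e, he⟩ := sp_case H hl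
      exact Or.inr (Or.inl ⟨n, hn, e, he⟩)
    · classical
      obtain ⟨f, hf, hef⟩ := class_exists_not_commute H.cls H.prim.2.1 hd
      have Fr : Frame D d f := ⟨H, hl, hd, hf, hef⟩
      haveI : Fact (Nat.Prime 2) := ⟨Nat.prime_two⟩
      letI : Fintype (GaloisField 2 2) := Fintype.ofFinite _
      have hF : Fintype.card (GaloisField 2 2) = 2 ^ 2 := by
        rw [← Nat.card_eq_fintype_card, GaloisField.card 2 2 two_ne_zero]
      obtain ⟨w, hwF⟩ := exists_four hF
      obtain ⟨n, vec, hn, R⟩ := Fr.coord.exists_rep hwF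
      obtain ⟨e, he⟩ := psu_case H hl hF hn R
      exact Or.inr (Or.inr ⟨n, hn, GaloisField 2 2, inferInstance, inferInstance, by rw [hF]; rfl,
        e, he⟩)
  · obtain ⟨φ⟩ := symFive_of_oddCore hsol hperf hD hd hodd
    exact Or.inl ⟨φ, symFive_image hD φ⟩

end H84.CoreCase
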